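import Mathlib
import Groth.Agent.Lib.Helper3.FibTF.B
import Groth.Agent.S1370

/-! # Torsion-free fibres: the locus is locally constructible (EGA IV 9.4.8-type). -/

set_option autoImplicit false
set_option linter.style.haveILetI false
set_option linter.unusedSectionVars false
universe u

namespace Groth.Agent.H3.FibTF

open AlgebraicGeometry CategoryTheory CategoryTheory.Limits Topology
open Groth.Agent.H3.FlatAss Groth.Agent.H3.FibFlat Groth.Agent.LD.QC Groth.Agent.H3.FibTors
open Groth.Agent.H3.TenAss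
open scoped Set.Notation
attribute [-instance] Groth.Agent.LD.QC.stalkModule

/-- pointwise criterion for constructibility in a Noetherian quasi-sober space. -/
theorem isConstructible_of_forall_exists {T : Type u} [TopologicalSpace T]
    [TopologicalSpace.NoetherianSpace T] [QuasiSober T] (E : Set T)
    (H : ∀ t : T, ∃ C : Set T, IsConstructible C ∧ t ∈ C ∧ (C ⊆ E ∨ C ⊆ Eᶜ)) :
    IsConstructible E := by
  rw [Groth.Agent.H8.CNoeth.isConstructible_iff]
  intro Yc hYc hirr
  have hgen : IsGenericPoint hirr.genericPoint Yc := hirr.isGenericPoint_genericPoint hYc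
  obtain ⟨C, hC, hηC, hsub⟩ := H hirr.genericPoint
  have hd : Yc ⊆ closure (C ∩ Yc) := by
    have h1 : Yc ⊆ closure {hirr.genericPoint} := by rw [hgen.def]
    exact h1.trans (closure_mono (Set.singleton_subset_iff.2 ⟨hηC, hgen.mem⟩))
  obtain ⟨U, hU, hne, hUsub⟩ := Groth.Agent.H8.CNoeth.exists_open_of_dense hirr hC hd
  rcases hsub with h | h
  · exact Or.inr ⟨U, hU, hne, hUsub.trans h⟩
  · exact Or.inl (Groth.Agent.H8.CNoeth.isNowhereDense_preimage_val hirr hU hne (hUsub.trans h))

variable {X S : Scheme.{u}} (f : X ⟶ S)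

section Key

variable [IsLocallyNoetherian S] [LocallyOfFiniteType f] [QuasiCompact f] (F : X.Modules)
  [Coh.IsQCoh F] (hF : CohB1.IsFP F)
  (hint : ∀ (s : S) (x : ↥(f.fiber s)), IsDomain ((f.fiber s).presheaf.stalk x))

/-- the set of points with torsion-free fibre module. -/
def tfLocus : Set S := {s : S | ∀ x : ↥(f.fiber s),
  Submodule.torsion ((f.fiber s).presheaf.stalk x)
    (((Scheme.Modules.pullback (f.fiberι s)).obj F).presheaf.stalk x) = ⊥}

omit [IsLocallyNoetherian S] [QuasiCompact f] in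
include hint in
theorem mem_tfLocus_iff (s : S) :
    s ∈ tfLocus f F ↔ ∀ z : ↥(f.fiber s),
      HasSocle ((f.fiber s).presheaf.stalk z)
        (((Scheme.Modules.pullback (f.fiberι s)).obj F).presheaf.stalk z) → ¬ NonMax z := by
  haveI : F.IsQuasicoherent := inferInstance
  haveI := isLocallyNoetherian_fiber f s
  haveI := qc_pullback (f.fiberι s) F
  exact forall_torsion_eq_bot_iff _ (hint s)

/-- the locus of fibrewise flatness of `F` over the fibres themselves. -/
def LF : Set X := {x : X | FQ (𝟙 X) f F x}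

include hF in
theorem isLocallyConstructible_LF : IsLocallyConstructible (LF f F) := by
  haveI : LocallyOfFinitePresentation f := Groth.Agent.H1.EtNhd.lfp_of_lft_of_noetherian f
  haveI : IsLocallyNoetherian X := LocallyOfFiniteType.isLocallyNoetherian f
  haveI : QuasiSeparated f := inferInstance
  haveI : LocallyOfFinitePresentation (𝟙 X ≫ f) := by rw [Category.id_comp]; infer_instance
  haveI : QuasiCompact (𝟙 X ≫ f) := by rw [Category.id_comp]; infer_instance
  haveI : QuasiSeparated (𝟙 X ≫ f) := by rw [Category.id_comp]; infer_instance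
  haveI := hF
  exact isLocallyConstructible_setOf_FQ (𝟙 X) f F hF

include hF hint in
/-- Case A: a point of the locus has a locally constructible neighbourhood-type set inside the
locus. -/
theorem exists_of_mem (s₀ : S) (h0 : s₀ ∈ tfLocus f F) :
    ∃ C : Set S, IsLocallyConstructible C ∧ s₀ ∈ C ∧ C ⊆ tfLocus f F := by
  haveI hq : F.IsQuasicoherent := inferInstance
  haveI : LocallyOfFinitePresentation f := Groth.Agent.H1.EtNhd.lfp_of_lft_of_noetherian f
  haveI : IsLocallyNoetherian X := LocallyOfFiniteType.isLocallyNoetherian f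
  haveI : QuasiSeparated f := inferInstance
  have hFl := isOpen_flatLocus_fiber f F hF s₀
  obtain ⟨W, hWo, hW⟩ := (f.fiberι s₀).isEmbedding.isInducing.isOpen_iff.mp hFl
  let Wo : X.Opens := ⟨W, hWo⟩
  haveI : QuasiCompact (Wo.ι ≫ f) := inferInstance
  have hC1 : IsLocallyConstructible (f '' (W ∩ (LF f F)ᶜ))ᶜ := by
    apply Groth.Agent.H6.GenSmooth2.isLocallyConstructible_compl
    apply f.isLocallyConstructible_image
    exact (Groth.Agent.H6.GenSmooth2.isLocallyConstructible_of_isOpen hWo).inter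
      (Groth.Agent.H6.GenSmooth2.isLocallyConstructible_compl (isLocallyConstructible_LF f F hF))
  have hC2 := Groth.Agent.S1370.result f F inferInstance hF Wo
  rw [mem_tfLocus_iff f F hint] at h0
  refine ⟨_, hC1.inter hC2, ⟨?_, ?_⟩, ?_⟩
  · rintro ⟨x, ⟨hxW, hxLF⟩, hfx⟩
    obtain ⟨z, rfl⟩ := exists_fiber_point f s₀ x hfx
    apply hxLF
    change FQ (𝟙 X) f F _
    rw [FQ_id_iff]
    have : z ∈ (f.fiberι s₀) ⁻¹' W := hxW
    rw [hW] at this
    exact this
  · intro x hx hfx
    obtain ⟨z, rfl⟩ := exists_fiber_point f s₀ x hfx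
    rw [mem_relAss_iff_hasSocle] at hx
    haveI := hint s₀ z
    have hfl : z ∈ (f.fiberι s₀) ⁻¹' W := by
      rw [hW]
      exact flat_of_not_nonMax z (h0 z hx) _
    exact hfl
  · rintro s ⟨hs1, hs2⟩
    rw [mem_tfLocus_iff f F hint]
    intro z hz hn
    haveI := hint s z
    have hx : f.fiberι s z ∈ MoreMor.relAss f F := (mem_relAss_iff_hasSocle f F s z).mpr hz
    have hfx : f (f.fiberι s z) = s := by
      have : f.fiberι s z ∈ f ⁻¹' {s} := by
        rw [← f.range_fiberι s]
        exact ⟨z, rfl⟩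
      exact this
    have hxW : f.fiberι s z ∈ W := hs2 _ hx hfx
    have hxLF : f.fiberι s z ∈ LF f F := by
      by_contra hne
      exact hs1 ⟨_, ⟨hxW, hne⟩, hfx⟩
    have hflat : Module.Flat ((f.fiber s).presheaf.stalk z)
        (((Scheme.Modules.pullback (f.fiberι s)).obj F).presheaf.stalk z) :=
      (FQ_id_iff f F s z).mp hxLF
    exact torsion_ne_bot_of_hasSocle_of_nonMax _ hz hn Module.Flat.torsion_eq_bot

include hF hint in
/-- Case B: a point outside the locus has a locally constructible set around it outside the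
locus. -/
theorem exists_of_not_mem (s₀ : S) (h0 : s₀ ∉ tfLocus f F) :
    ∃ C : Set S, IsLocallyConstructible C ∧ s₀ ∈ C ∧ C ⊆ (tfLocus f F)ᶜ := by
  haveI hq : F.IsQuasicoherent := inferInstance
  haveI : LocallyOfFinitePresentation f := Groth.Agent.H1.EtNhd.lfp_of_lft_of_noetherian f
  haveI : IsLocallyNoetherian X := LocallyOfFiniteType.isLocallyNoetherian f
  haveI : QuasiSeparated f := inferInstance
  rw [mem_tfLocus_iff f F hint] at h0
  push Not at h0
  obtain ⟨z₀, hz₀, hn₀⟩ := h0
  let Z : Set X := closure {f.fiberι s₀ z₀}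
  have hZc : IsClosed Z := isClosed_closure
  let Uo : X.Opens := ⟨Zᶜ, hZc.isOpen_compl⟩
  haveI : QuasiCompact (Uo.ι ≫ f) := inferInstance
  have hC3 := Groth.Agent.H6.GenSmooth2.isLocallyConstructible_compl
    (Groth.Agent.S1370.result f F inferInstance hF Uo)
  have hC4 := Groth.Agent.S3427.result f Zᶜ Set.univ
    (Groth.Agent.H6.GenSmooth2.isLocallyConstructible_of_isOpen hZc.isOpen_compl)
    (Groth.Agent.H6.GenSmooth2.isLocallyConstructible_of_isOpen isOpen_univ) (Set.subset_univ _)
  have hpre : ∀ (s : S) (z : ↥(f.fiber s)), f.fiberι s z ∈ Z →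
      (f.fiberι s) ⁻¹' Z ⊇ closure {z} := by
    intro s z hz v hv
    have h1 : z ⤳ v := specializes_iff_mem_closure.2 hv
    have h2 : f.fiberι s z ⤳ f.fiberι s v := h1.map (f.fiberι s).continuous
    exact hZc.closure_subset_iff.2 (Set.singleton_subset_iff.2 hz)
      (specializes_iff_mem_closure.1 h2)
  refine ⟨_, hC3.inter hC4, ⟨?_, ?_⟩, ?_⟩
  · intro hmem
    have hx₀ : f.fiberι s₀ z₀ ∈ MoreMor.relAss f F := (mem_relAss_iff_hasSocle f F s₀ z₀).mpr hz₀
    have hfx : f (f.fiberι s₀ z₀) = s₀ := by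
      have : f.fiberι s₀ z₀ ∈ f ⁻¹' {s₀} := by
        rw [← f.range_fiberι s₀]
        exact ⟨z₀, rfl⟩
      exact this
    exact hmem _ hx₀ hfx (subset_closure rfl)
  · change Set.univ ∩ f.base ⁻¹' {s₀} ⊆ closure (Zᶜ ∩ f.base ⁻¹' {s₀})
    rw [Set.univ_inter]
    have hd : Dense ((f.fiberι s₀) ⁻¹' Zᶜ) := by
      have e : (f.fiberι s₀) ⁻¹' Zᶜ = (closure {z₀})ᶜ := by
        rw [Set.preimage_compl,
          (f.fiberι s₀).isEmbedding.isInducing.closure_eq_preimage_closure_image {z₀},
          Set.image_singleton]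
      rw [e]
      exact dense_compl_closure_of_nonMax (hint s₀) z₀ hn₀
    have := (dense_preimage_iff _ (f.fiberι s₀).isEmbedding.isInducing Zᶜ).mp hd
    rwa [f.range_fiberι s₀] at this
  · rintro s ⟨hs3, hs4⟩ hsE
    rw [mem_tfLocus_iff f F hint] at hsE
    have hs3' : ¬ ∀ x ∈ MoreMor.relAss f F, f x = s → x ∈ Uo := hs3
    push Not at hs3'
    obtain ⟨x, hx, hfx, hxU⟩ := hs3'
    have hxZ : x ∈ Z := by
      by_contra hne
      exact hxU hne
    obtain ⟨z, rfl⟩ := exists_fiber_point f s x hfx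
    have hz : HasSocle ((f.fiber s).presheaf.stalk z)
        (((Scheme.Modules.pullback (f.fiberι s)).obj F).presheaf.stalk z) :=
      (mem_relAss_iff_hasSocle f F s z).mp hx
    have hnm := hsE z hz
    haveI := hint s z
    haveI := isNoetherian_fiber f s
    have hnhd := closure_mem_nhds_of_not_nonMax z hnm
    have hs4' : Set.univ ∩ f.base ⁻¹' {s} ⊆ closure (Zᶜ ∩ f.base ⁻¹' {s}) := hs4
    rw [Set.univ_inter] at hs4'
    have hd : Dense ((f.fiberι s) ⁻¹' Zᶜ) := by
      rw [dense_preimage_iff _ (f.fiberι s).isEmbedding.isInducing Zᶜ, f.range_fiberι s]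
      exact hs4'
    obtain ⟨v, hv1, hv2⟩ := mem_closure_iff_nhds.1 (hd z) _ hnhd
    exact hv2 (hpre s z hxZ hv1)

include hF hint in
/-- **the locus of torsion-free fibres is locally constructible.** -/
theorem isLocallyConstructible_tfLocus : IsLocallyConstructible (tfLocus f F) := by
  have key : ∀ s₀ : S, ∃ C : Set S, IsLocallyConstructible C ∧ s₀ ∈ C ∧
      (C ⊆ tfLocus f F ∨ C ⊆ (tfLocus f F)ᶜ) := by
    intro s₀
    by_cases h0 : s₀ ∈ tfLocus f F
    · obtain ⟨C, h1, h2, h3⟩ := exists_of_mem f F hF hint s₀ h0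
      exact ⟨C, h1, h2, Or.inl h3⟩
    · obtain ⟨C, h1, h2, h3⟩ := exists_of_not_mem f F hF hint s₀ h0
      exact ⟨C, h1, h2, Or.inr h3⟩
  intro s₁
  obtain ⟨_, ⟨V, hV, rfl⟩, hsV, -⟩ :=
    S.isBasis_affineOpens.exists_subset_of_mem_open (Set.mem_univ s₁) isOpen_univ
  refine ⟨V, V.isOpen.mem_nhds hsV, V.isOpen, ?_⟩
  haveI : IsNoetherianRing Γ(S, V) := IsLocallyNoetherian.component_noetherian ⟨V, hV⟩
  haveI hN : TopologicalSpace.NoetherianSpace (V : Set S) := noetherianSpace_of_isAffineOpen V hV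
  haveI : QuasiSober (V : Set S) := inferInstanceAs (QuasiSober (V : Scheme.{u}))
  apply isConstructible_of_forall_exists
  intro t
  obtain ⟨C, hC, htC, hsub⟩ := key t.1
  haveI : CompactSpace (V : Set S) := TopologicalSpace.NoetherianSpace.compactSpace _
  refine ⟨(V : Set S) ↓∩ C, ?_, htC, ?_⟩
  · exact (hC.preimage_of_isOpenEmbedding V.isOpenEmbedding').isConstructible
  · rcases hsub with h | h
    · exact Or.inl (Set.preimage_mono h)
    · exact Or.inr (Set.preimage_mono h)

end Key

end Groth.Agent.H3.FibTF
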